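import Mathlib

universe u

namespace Groth.Agent.WittFil53

open WittVector

variable (p : ℕ) [Fact p.Prime]

local notation "P0" => MvPolynomial (Option ℕ) ℤ

theorem teichmuller_mul_univ :
    teichmuller p (MvPolynomial.X none : P0) *
        WittVector.mk p (fun n => (MvPolynomial.X (some n) : P0)) =
      WittVector.mk p (fun n => (MvPolynomial.X none : P0) ^ p ^ n * MvPolynomial.X (some n)) := by
  apply WittVector.map_injective (MvPolynomial.map (Int.castRingHom ℚ))
    (MvPolynomial.map_injective _ Int.cast_injective)
  letI : Invertible ((p : ℕ) : MvPolynomial (Option ℕ) ℚ) :=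
    (invertibleOfNonzero (show ((p : ℕ) : ℚ) ≠ 0 by
      exact_mod_cast (Fact.out : p.Prime).ne_zero)).map (MvPolynomial.C : ℚ →+* _) _ |>.copy _
        (by simp)
  apply (WittVector.ghostMap.bijective_of_invertible p (MvPolynomial (Option ℕ) ℚ)).1
  rw [map_mul, map_mul, WittVector.map_teichmuller]
  funext n
  simp only [Pi.mul_apply, WittVector.ghostMap_apply]
  rw [ghostComponent_teichmuller]
  simp only [WittVector.ghostComponent_apply, aeval_wittPolynomial, WittVector.map_coeff,
    WittVector.coeff_mk, Finset.mul_sum, map_mul, map_pow, MvPolynomial.map_X]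
  refine Finset.sum_congr rfl fun i hi => ?_
  rw [Finset.mem_range] at hi
  rw [mul_pow, ← pow_mul, ← pow_add, Nat.add_sub_cancel' (by omega : i ≤ n)]
  ring

/-- Coefficients of a product with a Teichmüller representative. -/
theorem coeff_teichmuller_mul {R : Type u} [CommRing R] (r : R) (x : WittVector p R) (n : ℕ) :
    (teichmuller p r * x).coeff n = r ^ p ^ n * x.coeff n := by
  let f : P0 →+* R := (MvPolynomial.aeval (fun o : Option ℕ => o.elim r x.coeff)).toRingHom
  have h := congrArg (fun w => (WittVector.map f w).coeff n) (teichmuller_mul_univ p)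
  simp only [map_mul, WittVector.map_teichmuller, WittVector.map_coeff, WittVector.coeff_mk,
    map_pow] at h
  have hx : WittVector.map f (WittVector.mk p fun n => (MvPolynomial.X (some n) : P0)) = x := by
    ext k; simp [f]
  rw [hx] at h
  simpa [f] using h

theorem coeff_mul_teichmuller {R : Type u} [CommRing R] (r : R) (x : WittVector p R) (n : ℕ) :
    (x * teichmuller p r).coeff n = x.coeff n * r ^ p ^ n := by
  rw [mul_comm, coeff_teichmuller_mul, mul_comm]

theorem coeff_truncate_teichmuller_mul {R : Type u} [CommRing R] (m : ℕ) (r : R)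
    (a : TruncatedWittVector p m R) (j : Fin m) :
    TruncatedWittVector.coeff j (WittVector.truncate m (teichmuller p r) * a) =
      r ^ p ^ (j : ℕ) * TruncatedWittVector.coeff j a := by
  obtain ⟨x, rfl⟩ := WittVector.truncate_surjective p m R a
  rw [← map_mul, WittVector.coeff_truncate, coeff_teichmuller_mul, WittVector.coeff_truncate]

theorem coeff_vShift {R : Type u} [CommRing R] (x : WittVector p R) (s j : ℕ) :
    ((WittVector.verschiebung)^[s] x).coeff j = if j < s then 0 else x.coeff (j - s) := by
  split_ifs with h
  · exact WittVector.iterate_verschiebung_coeff_eq_zero x h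
  · obtain ⟨k, rfl⟩ := Nat.exists_eq_add_of_le' (not_lt.1 h)
    rw [WittVector.iterate_verschiebung_coeff, Nat.add_sub_cancel]

end Groth.Agent.WittFil53
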