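import Mathlib
import Groth.Prelude.Def_W4c6katofiltaWFil
import Groth.Agent.WittFil53.Coeff

universe u

namespace Groth.Agent.WittFil53

open WittVector

variable (p : ℕ) [Fact p.Prime] {A B : Type u} [CommRing A] [CommRing B] [Algebra A B] [CharP B p]

/-- Elements of the perfect closure some iterated `p`-th power of which comes from `A`. -/
noncomputable def rootRing (A B : Type u) [CommRing A] [CommRing B] [Algebra A B] [CharP B p] :
    Subring (PerfectClosure B p) :=
  haveI : CharP (PerfectClosure B p) p := inferInstance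
  { carrier := {y | ∃ k : ℕ, y ^ p ^ k ∈ ((PerfectClosure.of B p).comp (algebraMap A B)).range}
    mul_mem' := by
      rintro a b ⟨k, hk⟩ ⟨l, hl⟩
      refine ⟨k + l, ?_⟩
      rw [mul_pow]
      refine mul_mem ?_ ?_
      · rw [pow_add, pow_mul]; exact pow_mem hk _
      · rw [add_comm, pow_add, pow_mul]; exact pow_mem hl _
    one_mem' := ⟨0, by simp⟩
    add_mem' := by
      rintro a b ⟨k, hk⟩ ⟨l, hl⟩
      refine ⟨k + l, ?_⟩
      rw [add_pow_char_pow]
      refine add_mem ?_ ?_
      · rw [pow_add, pow_mul]; exact pow_mem hk _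
      · rw [add_comm, pow_add, pow_mul]; exact pow_mem hl _
    zero_mem' := ⟨0, by simp⟩
    neg_mem' := by
      rintro a ⟨k, hk⟩
      refine ⟨k, ?_⟩
      rw [neg_pow]
      exact mul_mem (pow_mem (neg_mem (one_mem _)) _) hk }

variable (hr : ∀ y : B, y ^ p ∈ (algebraMap A B).range → y ∈ (algebraMap A B).range)
include hr

theorem root_closed_pow (k : ℕ) (y : B) (h : y ^ p ^ k ∈ (algebraMap A B).range) :
    y ∈ (algebraMap A B).range := by
  induction k generalizing y with
  | zero => simpa using h
  | succ k ih =>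
    apply hr
    apply ih
    rw [← pow_mul]
    rwa [pow_succ'] at h

theorem of_mem_rootRing_iff (y : B) :
    PerfectClosure.of B p y ∈ rootRing p A B ↔ y ∈ (algebraMap A B).range := by
  constructor
  · rintro ⟨k, a, ha⟩
    simp only [RingHom.comp_apply] at ha
    rw [← map_pow, PerfectClosure.of_apply, PerfectClosure.of_apply,
      PerfectClosure.mk_eq_iff] at ha
    obtain ⟨z, hz⟩ := ha
    simp only [zero_add, iterate_frobenius, ← pow_mul, ← pow_add] at hz
    refine root_closed_pow p hr (k + z) y ⟨a ^ p ^ z, ?_⟩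
    rw [map_pow]
    exact hz
  · rintro ⟨a, rfl⟩
    exact ⟨0, a, by simp⟩

/-- Filtered pieces in terms of a root of the twisting element in the perfect closure. -/
theorem mem_fil_iff (m : ℕ) (c : B) (t : PerfectClosure B p)
    (ht : t ^ p ^ (m - 1) = PerfectClosure.of B p c) (a : TruncatedWittVector p m B) :
    a ∈ WittFil.fil p m (A := A) c ↔ ∀ j : Fin m,
      t ^ p ^ (j : ℕ) * PerfectClosure.of B p (TruncatedWittVector.coeff j a) ∈ rootRing p A B := by
  have key : ∀ j : Fin m,
      (t ^ p ^ (j : ℕ) * PerfectClosure.of B p (TruncatedWittVector.coeff j a)) ^ p ^ (m - 1 - (j : ℕ)) =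
        PerfectClosure.of B p (TruncatedWittVector.coeff j a ^ p ^ (m - 1 - (j : ℕ)) * c) := by
    intro j
    rw [mul_pow, ← pow_mul, ← pow_add, Nat.add_sub_cancel' (by omega : (j : ℕ) ≤ m - 1), ht,
      map_mul, map_pow, mul_comm]
  constructor
  · intro h j
    have h1 : PerfectClosure.of B p (TruncatedWittVector.coeff j a ^ p ^ (m - 1 - (j : ℕ)) * c)
        ∈ rootRing p A B := (of_mem_rootRing_iff p hr _).2 (h j)
    rw [← key j] at h1
    obtain ⟨k, hk⟩ := h1
    exact ⟨m - 1 - (j : ℕ) + k, by rwa [pow_add, pow_mul]⟩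
  · intro h j
    refine (of_mem_rootRing_iff p hr _).1 ?_
    rw [← key j]
    exact pow_mem (h j) _

omit hr in
theorem exists_root (m : ℕ) (c : B) :
    ∃ t : PerfectClosure B p, t ^ p ^ (m - 1) = PerfectClosure.of B p c :=
  ⟨PerfectClosure.mk B p (m - 1, c), by
    rw [← iterate_frobenius, PerfectClosure.iterate_frobenius_mk]⟩

theorem exists_lift (m : ℕ) (c : B) (t : PerfectClosure B p)
    (ht : t ^ p ^ (m - 1) = PerfectClosure.of B p c) (a : TruncatedWittVector p m B)
    (ha : a ∈ WittFil.fil p m (A := A) c) :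
    ∃ X : WittVector p (rootRing p A B), WittVector.map (rootRing p A B).subtype X =
      teichmuller p t * WittVector.map (PerfectClosure.of B p) a.out := by
  have h : ∀ k, (teichmuller p t * WittVector.map (PerfectClosure.of B p) a.out).coeff k
      ∈ rootRing p A B := by
    intro k
    rw [coeff_teichmuller_mul, WittVector.map_coeff]
    by_cases hk : k < m
    · have := (mem_fil_iff p hr m c t ht a).1 ha ⟨k, hk⟩
      rwa [← TruncatedWittVector.coeff_out] at this
    · rw [show a.out.coeff k = 0 from dif_neg hk, map_zero, mul_zero]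
      exact zero_mem _
  refine ⟨WittVector.mk p fun k => ⟨_, h k⟩, ?_⟩
  ext k
  simp [WittVector.map_coeff]

theorem fil_of_lift (m : ℕ) (c : B) (t : PerfectClosure B p)
    (ht : t ^ p ^ (m - 1) = PerfectClosure.of B p c) (z : WittVector p B)
    (X : WittVector p (rootRing p A B))
    (hX : WittVector.map (rootRing p A B).subtype X =
      teichmuller p t * WittVector.map (PerfectClosure.of B p) z) :
    WittVector.truncate m z ∈ WittFil.fil p m (A := A) c := by
  rw [mem_fil_iff p hr m c t ht]
  intro j
  have h := congrArg (fun w => WittVector.coeff w (j : ℕ)) hX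
  simp only [WittVector.map_coeff, coeff_teichmuller_mul] at h
  rw [WittVector.coeff_truncate, ← h]
  exact (X.coeff j).2

omit hr in
theorem truncate_out {R : Type u} [CommRing R] (m : ℕ) (a : TruncatedWittVector p m R) :
    WittVector.truncate m a.out = a := TruncatedWittVector.truncateFun_out a

theorem sub_mem_fil (m : ℕ) (c : B) (a b : TruncatedWittVector p m B)
    (ha : a ∈ WittFil.fil p m (A := A) c) (hb : b ∈ WittFil.fil p m (A := A) c) :
    a - b ∈ WittFil.fil p m (A := A) c := by
  obtain ⟨t, ht⟩ := exists_root p m c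
  obtain ⟨X, hX⟩ := exists_lift p hr m c t ht a ha
  obtain ⟨Y, hY⟩ := exists_lift p hr m c t ht b hb
  rw [← truncate_out p m a, ← truncate_out p m b, ← map_sub]
  refine fil_of_lift p hr m c t ht _ (X - Y) ?_
  rw [map_sub, hX, hY, map_sub, mul_sub]

theorem mul_mem_fil (m : ℕ) (c c' : B) (a b : TruncatedWittVector p m B)
    (ha : a ∈ WittFil.fil p m (A := A) c) (hb : b ∈ WittFil.fil p m (A := A) c') :
    a * b ∈ WittFil.fil p m (A := A) (c * c') := by
  obtain ⟨t, ht⟩ := exists_root p m c
  obtain ⟨t', ht'⟩ := exists_root p m c'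
  obtain ⟨X, hX⟩ := exists_lift p hr m c t ht a ha
  obtain ⟨Y, hY⟩ := exists_lift p hr m c' t' ht' b hb
  rw [← truncate_out p m a, ← truncate_out p m b, ← map_mul]
  refine fil_of_lift p hr m _ (t * t') (by rw [mul_pow, ht, ht', map_mul]) _ (X * Y) ?_
  rw [map_mul, hX, hY, map_mul, map_mul]
  ring

end Groth.Agent.WittFil53
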