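import Mathlib

set_option linter.unusedSectionVars false

universe u

namespace Groth.Agent.WittFil53

variable {A B : Type u} [CommRing A] [IsDomain A] [CommRing B] [Algebra A B] {r : ℕ}

theorem prod_dvd_of_primes (x : Fin r → A) (hx : ∀ i, Prime (x i))
    (hxa : ∀ i j, Associated (x i) (x j) → i = j) (s : Finset (Fin r)) (a : A)
    (ha : ∀ i ∈ s, x i ∣ a) : (∏ i ∈ s, x i) ∣ a := by
  classical
  induction s using Finset.induction_on with
  | empty => simp
  | @insert i s hi ih =>
    obtain ⟨c, hc⟩ := ih fun j hj => ha j (Finset.mem_insert_of_mem hj)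
    have h1 : x i ∣ (∏ j ∈ s, x j) * c := hc ▸ ha i (Finset.mem_insert_self i s)
    rcases (hx i).dvd_or_dvd h1 with h2 | h2
    · obtain ⟨j, hj, hij⟩ := (hx i).exists_mem_finset_dvd h2
      have := hxa i j ((hx i).associated_of_dvd (hx j) hij)
      exact absurd (this ▸ hj) hi
    · rw [Finset.prod_insert hi, hc, mul_comm (x i)]
      exact mul_dvd_mul_left _ h2

theorem algebraMap_injective_of_prod (x : Fin r → A) (hx : ∀ i, Prime (x i))
    [IsLocalization.Away (∏ i, x i) B] : Function.Injective (algebraMap A B) :=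
  IsLocalization.injective (M := Submonoid.powers (∏ i, x i)) B
    (powers_le_nonZeroDivisors_of_noZeroDivisors
      (Finset.prod_ne_zero_iff.2 fun i _ => (hx i).ne_zero))

theorem charP_of_prod (p : ℕ) [CharP A p] (x : Fin r → A) (hx : ∀ i, Prime (x i))
    [IsLocalization.Away (∏ i, x i) B] : CharP B p :=
  charP_of_injective_algebraMap (algebraMap_injective_of_prod (B := B) x hx) p

/-- The unit monomial. -/
def mono (u : Fin r → Bˣ) (n : Fin r → ℤ) : Bˣ := ∏ i, u i ^ n i

theorem mono_add (u : Fin r → Bˣ) (n n' : Fin r → ℤ) : mono u (n + n') = mono u n * mono u n' := by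
  simp [mono, zpow_add, Finset.prod_mul_distrib]

theorem mono_zero (u : Fin r → Bˣ) : mono u 0 = 1 := by simp [mono]

theorem mono_pow (u : Fin r → Bˣ) (n : Fin r → ℤ) (k : ℕ) :
    mono u n ^ k = mono u (fun i => n i * k) := by
  simp only [mono, ← Finset.prod_pow]
  exact Finset.prod_congr rfl fun i _ => by rw [← zpow_natCast, ← zpow_mul]

theorem mono_nat (x : Fin r → A) (u : Fin r → Bˣ) (hu : ∀ i, (u i : B) = algebraMap A B (x i))
    (n : Fin r → ℕ) :
    ((mono u fun i => (n i : ℤ)) : B) = algebraMap A B (∏ i, x i ^ n i) := by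
  simp [mono, Units.coe_prod, map_prod, map_pow, hu]

theorem mono_nonneg_mem (x : Fin r → A) (u : Fin r → Bˣ) (hu : ∀ i, (u i : B) = algebraMap A B (x i))
    (n : Fin r → ℤ) (hn : ∀ i, 0 ≤ n i) : (mono u n : B) ∈ (algebraMap A B).range := by
  refine ⟨∏ i, x i ^ (n i).toNat, ?_⟩
  rw [← mono_nat x u hu fun i => (n i).toNat]
  congr 2
  funext i
  exact Int.toNat_of_nonneg (hn i)

/-- The root lemma: if `z ^ q * u ^ n` is integral and all `n i < q` then `z` is integral. -/
theorem mem_range_of_pow_mul_mono_mem (x : Fin r → A) (hx : ∀ i, Prime (x i))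
    (hxa : ∀ i j, Associated (x i) (x j) → i = j) [IsLocalization.Away (∏ i, x i) B]
    (u : Fin r → Bˣ) (hu : ∀ i, (u i : B) = algebraMap A B (x i)) (z : B) (q : ℕ)
    (n : Fin r → ℤ) (hn : ∀ i, n i < q) (hz : z ^ q * (mono u n : B) ∈ (algebraMap A B).range) :
    z ∈ (algebraMap A B).range := by
  classical
  set P := ∏ i, x i with hP
  obtain ⟨k, a, hka⟩ := IsLocalization.Away.surj (S := B) P z
  induction k generalizing a with
  | zero => exact ⟨a, by simpa using hka.symm⟩
  | succ k ih =>
    obtain ⟨b, hb⟩ := hz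
    have hinj := algebraMap_injective_of_prod (B := B) x hx
    have hsplit : mono u n * mono u (fun i => ((-n i).toNat : ℤ)) =
        mono u (fun i => ((n i).toNat : ℤ)) := by
      rw [← mono_add]
      congr 1
      funext i
      simp only [Pi.add_apply]
      omega
    have key : a ^ q * ∏ i, x i ^ (n i).toNat =
        b * (P ^ (k + 1)) ^ q * ∏ i, x i ^ (-n i).toNat := by
      apply hinj
      rw [map_mul, map_mul, map_mul, map_pow, map_pow, ← hka, hb, ← mono_nat x u hu,
        ← mono_nat x u hu, ← hsplit, Units.val_mul, map_pow]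
      ring
    have hdvd : ∀ i, x i ∣ a := by
      intro i
      have hq : (n i).toNat < q ∨ q = 0 := by have := hn i; omega
      have hq0 : q ≠ 0 → (n i).toNat < q := fun h => hq.resolve_right h
      by_contra hna
      have h1 : x i ^ ((n i).toNat + 1) ∣ a ^ q * ∏ j, x j ^ (n j).toNat := by
        rw [key]
        have hle : (n i).toNat + 1 ≤ (k + 1) * q + (-n i).toNat := by
          have := hn i
          by_cases h : q = 0
          · subst h; omega
          · have := Nat.le_mul_of_pos_left q (show 0 < k + 1 by omega)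
            have := hq0 h
            omega
        refine (pow_dvd_pow _ hle).trans ?_
        rw [pow_add, ← pow_mul]
        exact mul_dvd_mul (dvd_mul_of_dvd_right
          (pow_dvd_pow_of_dvd (Finset.dvd_prod_of_mem _ (Finset.mem_univ i)) _) _)
          (Finset.dvd_prod_of_mem (fun j => x j ^ (-n j).toNat) (Finset.mem_univ i))
      rw [← Finset.mul_prod_erase _ _ (Finset.mem_univ i), mul_left_comm, pow_succ] at h1
      have h2 := (mul_dvd_mul_iff_left (pow_ne_zero _ (hx i).ne_zero)).1 h1
      rcases (hx i).dvd_or_dvd h2 with h3 | h3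
      · exact hna ((hx i).dvd_of_dvd_pow h3)
      · obtain ⟨j, hj, hij⟩ := (hx i).exists_mem_finset_dvd h3
        exact (Finset.ne_of_mem_erase hj)
          (hxa i j ((hx i).associated_of_dvd (hx j) ((hx i).dvd_of_dvd_pow hij))).symm
    obtain ⟨c, rfl⟩ := prod_dvd_of_primes x hx hxa Finset.univ a fun i _ => hdvd i
    refine ih c ?_
    have hPu : IsUnit (algebraMap A B P) := IsLocalization.Away.algebraMap_isUnit P
    apply hPu.mul_left_cancel
    rw [← map_mul, ← hka, pow_succ]
    ring

theorem root_closed (x : Fin r → A) (hx : ∀ i, Prime (x i))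
    (hxa : ∀ i j, Associated (x i) (x j) → i = j) [IsLocalization.Away (∏ i, x i) B]
    (u : Fin r → Bˣ) (hu : ∀ i, (u i : B) = algebraMap A B (x i)) (z : B) (q : ℕ) (hq : 0 < q)
    (hz : z ^ q ∈ (algebraMap A B).range) : z ∈ (algebraMap A B).range := by
  refine mem_range_of_pow_mul_mono_mem x hx hxa u hu z q 0 (fun i => ?_) ?_
  · simpa using hq
  · simpa [mono_zero] using hz

end Groth.Agent.WittFil53
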