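import Mathlib
import Groth.Prelude.Def_W4c6katofiltaWFil
import Groth.Agent.WittFil53.Coeff
import Groth.Agent.WittFil53.Root

universe u

namespace Groth.Agent.WittFil53

/-- A strict inequality of orders improves the bound by one. -/
theorem shift_of_not_dvd {A B : Type u} [CommRing A] [IsDomain A] [CommRing B] [Algebra A B]
    (x : A) (hx : Prime x) [IsLocalization.Away x B] (u : Bˣ) (hu : (u : B) = algebraMap A B x)
    (y : B) (q : ℕ) (hq : 0 < q) (n : ℤ) (hn : ¬ (q : ℤ) ∣ n)
    (h : y ^ q * ((u ^ n : Bˣ) : B) ∈ (algebraMap A B).range) :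
    y ^ q * ((u ^ (n - 1) : Bˣ) : B) ∈ (algebraMap A B).range := by
  haveI : IsLocalization.Away (∏ _i : Fin 1, x) B := by simpa using ‹IsLocalization.Away x B›
  have hmono : ∀ e : ℤ, mono (fun _ : Fin 1 => u) (fun _ => e) = u ^ e := by
    intro e; simp [mono]
  have hq' : (0 : ℤ) < q := by exact_mod_cast hq
  set t := n / (q : ℤ)
  set e := n % (q : ℤ)
  have hne : n = t * (q : ℤ) + e := by rw [mul_comm]; exact (Int.mul_ediv_add_emod n _).symm
  have he0 : 0 < e := lt_of_le_of_ne (Int.emod_nonneg _ hq'.ne')
    fun h => hn (Int.dvd_of_emod_eq_zero h.symm)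
  have hshift : ∀ d : ℤ, y ^ q * ((u ^ (n - d) : Bˣ) : B) =
      (y * ((u ^ t : Bˣ) : B)) ^ q * ((u ^ (e - d) : Bˣ) : B) := by
    intro d
    rw [mul_pow, ← Units.val_pow_eq_pow_val (u ^ t), mul_assoc, ← Units.val_mul,
      ← zpow_natCast (u ^ t), ← zpow_mul, ← zpow_add, hne, add_sub_assoc]
  have hz : y * ((u ^ t : Bˣ) : B) ∈ (algebraMap A B).range := by
    refine mem_range_of_pow_mul_mono_mem (fun _ : Fin 1 => x) (fun _ => hx)
      (fun i j _ => Subsingleton.elim i j) (fun _ => u) (fun _ => hu) _ q (fun _ => e) (fun _ => ?_) ?_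
    · exact Int.emod_lt_of_pos _ hq'
    · have h0 := hshift 0
      rw [sub_zero, sub_zero] at h0
      rw [hmono]
      exact h0 ▸ h
  rw [hshift]
  refine mul_mem (pow_mem hz _) ?_
  rw [← hmono]
  exact mono_nonneg_mem (fun _ : Fin 1 => x) _ (fun _ => hu) _ fun _ => by omega

variable (p : ℕ) [Fact p.Prime] {S B : Type u} [CommRing S] [IsDomain S] [CharP S p]
  [CommRing B] [Algebra (PowerSeries S) B] [Algebra S B] [IsScalarTower S (PowerSeries S) B]
  [IsLocalization.Away (PowerSeries.X : PowerSeries S) B]

theorem gr_fil (u : Bˣ) (hu : (u : B) = algebraMap (PowerSeries S) B PowerSeries.X) (m s : ℕ)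
    (hs : s < m) (i : ℤ) (hsi : s = 0 ∨ ¬ ((p : ℤ) ∣ i)) :
    (∀ c : WittVector p S,
        WittFil.vShiftTeich p m s ((u ^ i : Bˣ) : B) c ∈
          WittFil.fil p m (A := PowerSeries S) ((u ^ (-((p : ℤ) ^ (m - 1 - s) * i)) : Bˣ) : B)) ∧
      (∀ c : WittVector p S,
        WittFil.vShiftTeich p m s ((u ^ i : Bˣ) : B) c ∈
            WittFil.fil p m (A := PowerSeries S) ((u ^ (-((p : ℤ) ^ (m - 1 - s) * i) - 1) : Bˣ) : B) ↔
          WittVector.truncate (m - s) c = 0) ∧
      (∀ y ∈ WittFil.fil p m (A := PowerSeries S) ((u ^ (-((p : ℤ) ^ (m - 1 - s) * i)) : Bˣ) : B),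
        ∃ c : WittVector p S,
          y - WittFil.vShiftTeich p m s ((u ^ i : Bˣ) : B) c ∈
            WittFil.fil p m (A := PowerSeries S)
              ((u ^ (-((p : ℤ) ^ (m - 1 - s) * i) - 1) : Bˣ) : B)) := by
  set alg := algebraMap (PowerSeries S) B with halg
  set N : ℤ := (p : ℤ) ^ (m - 1 - s) * i with hN
  have hp : p.Prime := Fact.out
  have hsc : ∀ a : S, algebraMap S B a = alg (PowerSeries.C a) := fun a => by
    rw [halg, IsScalarTower.algebraMap_apply S (PowerSeries S) B a]; rfl
  -- the twist cancels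
  have hcancel : ∀ (k : ℕ), k < m - s → ∀ (b : B) (d : ℤ),
      (b * ((u ^ i : Bˣ) : B) ^ p ^ k) ^ p ^ (m - 1 - (k + s)) * ((u ^ (-N + d) : Bˣ) : B) =
        b ^ p ^ (m - 1 - (k + s)) * ((u ^ d : Bˣ) : B) := by
    intro k hk b d
    rw [mul_pow, ← pow_mul, ← pow_add, show k + (m - 1 - (k + s)) = m - 1 - s by omega,
      ← Units.val_pow_eq_pow_val, mul_assoc, ← Units.val_mul, ← zpow_natCast, ← zpow_mul,
      ← zpow_add, hN, Nat.cast_pow]
    congr 3
    ring
  have hΦ : ∀ (c : WittVector p S) (j : Fin m),
      TruncatedWittVector.coeff j (WittFil.vShiftTeich p m s ((u ^ i : Bˣ) : B) c) =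
        if (j : ℕ) < s then 0
        else alg (PowerSeries.C (c.coeff ((j : ℕ) - s))) * ((u ^ i : Bˣ) : B) ^ p ^ ((j : ℕ) - s) := by
    intro c j
    unfold WittFil.vShiftTeich
    rw [WittVector.coeff_truncate, coeff_vShift]
    split_ifs with h
    · rfl
    · rw [coeff_mul_teichmuller, WittVector.map_coeff, hsc]
  have hz0 : ∀ (k : ℕ) (b : B), (0 : B) ^ p ^ k * b ∈ alg.range := fun k b => by
    rw [zero_pow (pow_ne_zero _ hp.ne_zero), zero_mul]; exact zero_mem _
  refine ⟨fun c j => ?_, fun c => ⟨fun h => ?_, fun h j => ?_⟩, fun y hy => ?_⟩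
  · rw [hΦ]
    split_ifs with h
    · exact hz0 _ _
    · have := hcancel ((j : ℕ) - s) (by omega) (alg (PowerSeries.C (c.coeff ((j : ℕ) - s)))) 0
      rw [show (j : ℕ) - s + s = (j : ℕ) by omega, add_zero, zpow_zero, Units.val_one, mul_one] at this
      rw [this]
      exact pow_mem (RingHom.mem_range_self alg _) _
  · refine TruncatedWittVector.ext fun k => ?_
    rw [WittVector.coeff_truncate, TruncatedWittVector.coeff_zero]
    have hk := k.isLt
    have h1 := h ⟨(k : ℕ) + s, by omega⟩
    rw [hΦ, if_neg (by simp), sub_eq_add_neg] at h1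
    simp only [Nat.add_sub_cancel] at h1
    rw [hcancel (k : ℕ) hk] at h1
    obtain ⟨b, hb⟩ := h1
    have h2 : alg (PowerSeries.X * b) = alg (PowerSeries.C (c.coeff k) ^ p ^ (m - 1 - ((k : ℕ) + s))) := by
      rw [map_mul, hb, ← hu, mul_left_comm, zpow_neg, zpow_one, Units.mul_inv, mul_one, map_pow]
    have h3 := IsLocalization.injective (M := Submonoid.powers (PowerSeries.X : PowerSeries S)) B
      (powers_le_nonZeroDivisors_of_noZeroDivisors PowerSeries.X_ne_zero) h2
    have h4 := congrArg PowerSeries.constantCoeff h3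
    rw [map_mul, PowerSeries.constantCoeff_X, zero_mul, map_pow, PowerSeries.constantCoeff_C] at h4
    exact pow_eq_zero_iff (pow_ne_zero _ hp.ne_zero) |>.1 h4.symm
  · rw [hΦ]
    split_ifs with hj
    · exact hz0 _ _
    · have := congrArg (TruncatedWittVector.coeff (⟨(j : ℕ) - s, by omega⟩ : Fin (m - s))) h
      rw [WittVector.coeff_truncate, TruncatedWittVector.coeff_zero] at this
      rw [this, map_zero, map_zero, zero_mul]
      exact hz0 _ _
  · -- coordinates above s
    have hroot : ∀ k : ℕ, ∃ a : PowerSeries S,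
        y.out.coeff (k + s) = alg a * ((u ^ i : Bˣ) : B) ^ p ^ k := by
      intro k
      by_cases hk : k < m - s
      · set v := ((u ^ i : Bˣ) : B) ^ p ^ k
        set b := y.out.coeff (k + s) * (((u ^ i) ^ p ^ k)⁻¹ : Bˣ)
        have hbv : b * v = y.out.coeff (k + s) := by
          simp only [b, v, ← Units.val_pow_eq_pow_val, mul_assoc, Units.inv_mul, mul_one]
        have h1 := hy ⟨k + s, by omega⟩
        rw [← TruncatedWittVector.coeff_out] at h1
        simp only at h1
        rw [← hbv] at h1
        have h2 := hcancel k hk b 0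
        rw [add_zero, zpow_zero, Units.val_one, mul_one] at h2
        rw [h2] at h1
        haveI : IsLocalization.Away (∏ _i : Fin 1, (PowerSeries.X : PowerSeries S)) B := by
          simpa using ‹IsLocalization.Away (PowerSeries.X : PowerSeries S) B›
        obtain ⟨a, ha⟩ := root_closed (fun _ : Fin 1 => (PowerSeries.X : PowerSeries S))
          (fun _ => PowerSeries.X_prime) (fun i j _ => Subsingleton.elim i j) (fun _ => u)
          (fun _ => hu) b (p ^ (m - 1 - (k + s))) (pow_pos hp.pos _) h1
        exact ⟨a, by rw [ha, hbv]⟩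
      · exact ⟨0, by rw [map_zero, zero_mul]; exact dif_neg (by omega)⟩
    choose a ha using hroot
    let at' : WittVector p (PowerSeries S) := WittVector.mk p a
    let c : WittVector p S := WittVector.map PowerSeries.constantCoeff at'
    refine ⟨c, ?_⟩
    let P : WittVector p B := WittVector.mk p fun k => if k < s then y.out.coeff k else 0
    let v := ((u ^ i : Bˣ) : B)
    have hW : y.out = P + (WittVector.verschiebung)^[s]
        (WittVector.map alg at' * WittVector.teichmuller p v) := by
      ext k
      rw [WittVector.coeff_add_of_disjoint, coeff_vShift]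
      · simp only [P, WittVector.coeff_mk]
        split_ifs with hk
        · rw [add_zero]
        · rw [zero_add, coeff_mul_teichmuller, WittVector.map_coeff]
          have := ha (k - s)
          rw [show k - s + s = k by omega] at this
          simpa [at'] using this
      · intro n
        by_cases hn : n < s
        · exact Or.inr (by rw [coeff_vShift, if_pos hn])
        · exact Or.inl (by simp [P, hn])
    have hc' : WittVector.map (algebraMap S B) c = WittVector.map alg (WittVector.map PowerSeries.C c) := by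
      ext k; simp [WittVector.map_coeff, hsc]
    set w := at' - WittVector.map PowerSeries.C c with hw
    have hD : y - WittFil.vShiftTeich p m s v c =
        WittVector.truncate m (P + (WittVector.verschiebung)^[s]
          (WittVector.map alg w * WittVector.teichmuller p v)) := by
      have hy' : WittVector.truncate m y.out = y := TruncatedWittVector.truncateFun_out y
      conv_lhs => rw [← hy', WittFil.vShiftTeich, ← map_sub, hW, hc', add_sub_assoc,
        ← iterate_map_sub (WittVector.verschiebung (p := p) (R := B)) s, ← sub_mul, ← map_sub, ← hw]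
    have hw0 : ∀ k, ∃ b : PowerSeries S, w.coeff k = PowerSeries.X * b := by
      intro k
      refine PowerSeries.X_dvd_iff.2 ?_
      have h0 : WittVector.map PowerSeries.constantCoeff w = 0 := by
        have hcc : WittVector.map PowerSeries.constantCoeff (WittVector.map PowerSeries.C c) = c := by
          ext n; simp [WittVector.map_coeff]
        rw [hw, map_sub, hcc, sub_self]
      have := congrArg (fun z => WittVector.coeff z k) h0
      simpa [WittVector.map_coeff] using this
    intro j
    rw [hD, WittVector.coeff_truncate, WittVector.coeff_add_of_disjoint, coeff_vShift]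
    · simp only [P, WittVector.coeff_mk]
      split_ifs with hj
      · rw [add_zero, TruncatedWittVector.coeff_out]
        refine shift_of_not_dvd PowerSeries.X PowerSeries.X_prime u hu _ _ (pow_pos hp.pos _) _ ?_ (hy j)
        have hpi : ¬ (p : ℤ) ∣ i := hsi.resolve_left (by omega)
        rw [dvd_neg, Nat.cast_pow]
        intro hdvd
        have h1 : (p : ℤ) ^ (m - 1 - s + 1) ∣ (p : ℤ) ^ (m - 1 - s) * i :=
          (pow_dvd_pow _ (by omega)).trans hdvd
        rw [pow_succ] at h1
        exact hpi ((mul_dvd_mul_iff_left (pow_ne_zero _ (by exact_mod_cast hp.ne_zero))).1 h1)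
      · rw [zero_add, coeff_mul_teichmuller, WittVector.map_coeff]
        obtain ⟨b, hb⟩ := hw0 ((j : ℕ) - s)
        have := hcancel ((j : ℕ) - s) (by omega) (alg (w.coeff ((j : ℕ) - s))) (-1)
        rw [show (j : ℕ) - s + s = (j : ℕ) by omega, ← sub_eq_add_neg] at this
        rw [this, hb, map_mul, ← hu, mul_pow]
        obtain ⟨t, ht⟩ : ∃ t, p ^ (m - 1 - (j : ℕ)) = t + 1 :=
          ⟨_, (Nat.sub_add_cancel (pow_pos hp.pos _)).symm⟩
        rw [ht, pow_succ (u : B), zpow_neg, zpow_one, mul_right_comm, mul_assoc ((u : B) ^ t),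
          Units.mul_inv, mul_one]
        refine mul_mem (pow_mem ?_ _) (pow_mem (RingHom.mem_range_self alg _) _)
        exact hu ▸ RingHom.mem_range_self alg _
    · intro n
      by_cases hn : n < s
      · exact Or.inr (by rw [coeff_vShift, if_pos hn])
      · exact Or.inl (by simp [P, hn])

end Groth.Agent.WittFil53
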